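import Mathlib.NumberTheory.Bernoulli
import Mathlib.NumberTheory.ZetaValues
import Mathlib.RingTheory.PowerSeries.Inverse
import Mathlib.RingTheory.PowerSeries.Exp

/-!
# Coefficients of a Todd class integrand
-/

set_option autoImplicit false

open PowerSeries

namespace Groth.Agent.ToddCoeff

local notation "B" => bernoulli'PowerSeries ℚ

theorem rescale_neg_mul_exp : rescale (-1 : ℚ) B * exp ℚ = B := by
  have h := congrArg (rescale (-1 : ℚ)) (bernoulli'PowerSeries_mul_exp_sub_one ℚ)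
  rw [map_mul, map_mul, map_sub, map_one, rescale_X] at h
  have he : rescale (-1 : ℚ) (exp ℚ) * exp ℚ = 1 := by
    have := exp_mul_exp_neg_eq_one (A := ℚ)
    rw [mul_comm]
    simpa [evalNegHom] using this
  have h2 : rescale (-1 : ℚ) B * exp ℚ * (exp ℚ - 1) = B * (exp ℚ - 1) := by
    rw [bernoulli'PowerSeries_mul_exp_sub_one]
    have h3 : C (-1 : ℚ) = -1 := by simp
    rw [h3] at h
    linear_combination (-(exp ℚ) ^ 2) * h + (exp ℚ * rescale (-1 : ℚ) B + X * exp ℚ) * he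
  exact mul_right_cancel₀ (fun h0 => by
    have := congrArg (coeff 1) h0
    simp at this) h2

theorem rescale_bern_mul_exp (q : ℚ) : rescale (-q) B * rescale q (exp ℚ) = rescale q B := by
  conv_rhs => rw [← rescale_neg_mul_exp, map_mul, rescale_rescale]
  rw [neg_one_mul]

theorem exp_add (a b : ℚ) : rescale (a + b) (exp ℚ) = rescale a (exp ℚ) * rescale b (exp ℚ) :=
  (exp_mul_exp_eq_exp_add (A := ℚ) a b).symm

/-- the part not depending on `p` -/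
noncomputable def fixedPart (m : ℕ) (d e : ℚ) : PowerSeries ℚ :=
  (rescale (-d) B)⁻¹ * B ^ m * rescale e (exp ℚ)

theorem product_eq (m : ℕ) (d q e : ℚ) :
    (rescale (-d) B)⁻¹ * rescale (-q) B * B ^ m * rescale (q + e) (exp ℚ) = fixedPart m d e * rescale q B := by
  rw [exp_add, ← rescale_bern_mul_exp q, fixedPart]
  ring

theorem coeff_rescale_bern (q : ℚ) (j : ℕ) :
    coeff j (rescale q B) = q ^ j * (bernoulli' j / (j.factorial : ℚ)) := by
  simp [coeff_rescale, bernoulli'PowerSeries]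

theorem coeff_product (m : ℕ) (d q e : ℚ) (n : ℕ) :
    coeff n ((rescale (-d) B)⁻¹ * rescale (-q) B * B ^ m * rescale (q + e) (exp ℚ)) =
      ∑ j ∈ Finset.range (n + 1), coeff (n - j) (fixedPart m d e) * (q ^ j * (bernoulli' j / (j.factorial : ℚ))) := by
  rw [product_eq, mul_comm (fixedPart m d e), coeff_mul, Finset.Nat.sum_antidiagonal_eq_sum_range_succ_mk]
  exact Finset.sum_congr rfl fun j _ => by rw [coeff_rescale_bern, mul_comm]

theorem coeffs_B : coeff 0 B = 1 ∧ coeff 1 B = 1 / 2 ∧ coeff 2 B = 1 / 12 ∧ coeff 3 B = 0 := by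
  refine ⟨?_, ?_, ?_, ?_⟩ <;>
    simp [bernoulli'PowerSeries, bernoulli'_two, bernoulli'_three, Nat.factorial] <;> norm_num

theorem coeffs_inv (d : ℚ) :
    coeff 0 (rescale (-d) B)⁻¹ = 1 ∧ coeff 1 (rescale (-d) B)⁻¹ = d / 2 ∧
      coeff 2 (rescale (-d) B)⁻¹ = d ^ 2 / 6 ∧ coeff 3 (rescale (-d) B)⁻¹ = d ^ 3 / 24 := by
  obtain ⟨b0, b1, b2, b3⟩ := coeffs_B
  have hc0 : coeff 0 (rescale (-d) B) = 1 := by rw [coeff_rescale, b0]; simp
  have hc : constantCoeff (rescale (-d) B) ≠ 0 := by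
    rw [← coeff_zero_eq_constantCoeff_apply, hc0]; norm_num
  have hi0 : coeff 0 (rescale (-d) B)⁻¹ = 1 := by
    rw [coeff_zero_eq_constantCoeff_apply, constantCoeff_inv, ← coeff_zero_eq_constantCoeff_apply, hc0, inv_one]
  have h := PowerSeries.mul_inv_cancel _ hc
  have key : ∀ n, ∑ j ∈ Finset.range (n + 1), coeff j (rescale (-d) B) * coeff (n - j) (rescale (-d) B)⁻¹ =
      if n = 0 then 1 else 0 := fun n => by
    have := congrArg (coeff n) h
    rw [coeff_mul, Finset.Nat.sum_antidiagonal_eq_sum_range_succ_mk, coeff_one] at this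
    exact this
  have e1 := key 1
  have e2 := key 2
  have e3 := key 3
  simp only [Finset.sum_range_succ, Finset.range_zero, Finset.sum_empty, coeff_rescale, b0, b1, b2, b3, hi0,
    Nat.sub_self, zero_add, one_ne_zero, if_false, Nat.sub_zero, OfNat.ofNat_ne_zero, Nat.reduceSub] at e1 e2 e3
  ring_nf at e1 e2 e3
  refine ⟨hi0, by linear_combination e1, by linear_combination e2 + d / 2 * e1,
    by linear_combination e3 + d / 2 * e2 + (d ^ 2 / 6) * e1⟩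

theorem coeffs_pow : ∀ m : ℕ, coeff 0 (B ^ m) = 1 ∧ coeff 1 (B ^ m) = (m : ℚ) / 2 ∧
    coeff 2 (B ^ m) = (m : ℚ) / 12 + (m : ℚ) * ((m : ℚ) - 1) / 8 ∧
    coeff 3 (B ^ m) = (m : ℚ) * ((m : ℚ) - 1) / 24 + (m : ℚ) * ((m : ℚ) - 1) * ((m : ℚ) - 2) / 48 := by
  obtain ⟨b0, b1, b2, b3⟩ := coeffs_B
  intro m
  induction m with
  | zero => simp [coeff_one]
  | succ m ih =>
    obtain ⟨a0, a1, a2, a3⟩ := ih
    simp only [pow_succ, coeff_mul, Finset.Nat.sum_antidiagonal_eq_sum_range_succ_mk, Finset.sum_range_succ,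
      Finset.range_zero, Finset.sum_empty, Nat.sub_self, Nat.sub_zero, zero_add]
    norm_num [a0, a1, a2, a3, b0, b1, b2, b3]
    exact ⟨by ring, by ring, by ring⟩

theorem fixedPart_coeffs (m : ℕ) (d e : ℚ) :
    coeff 0 (fixedPart m d e) = 1 ∧ coeff 1 (fixedPart m d e) = d / 2 + (m : ℚ) / 2 + e := by
  obtain ⟨i0, i1, i2, i3⟩ := coeffs_inv d
  obtain ⟨a0, a1, a2, a3⟩ := coeffs_pow m
  simp only [fixedPart, coeff_mul, Finset.Nat.sum_antidiagonal_eq_sum_range_succ_mk, Finset.sum_range_succ,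
    Finset.range_zero, Finset.sum_empty, Nat.sub_self, Nat.sub_zero, zero_add, coeff_rescale, coeff_exp]
  norm_num [i0, i1, a0, a1, Nat.factorial]
  ring

theorem fixedPart_coeffs_high (m : ℕ) (d e : ℚ) :
    coeff 2 (fixedPart m d e) = (d ^ 2 / 6 + d / 2 * ((m : ℚ) / 2) + ((m : ℚ) / 12 + (m : ℚ) * ((m : ℚ) - 1) / 8)) +
        (d / 2 + (m : ℚ) / 2) * e + e ^ 2 / 2 ∧
    coeff 3 (fixedPart m d e) = (d ^ 3 / 24 + d ^ 2 / 6 * ((m : ℚ) / 2) +
        d / 2 * ((m : ℚ) / 12 + (m : ℚ) * ((m : ℚ) - 1) / 8) +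
        ((m : ℚ) * ((m : ℚ) - 1) / 24 + (m : ℚ) * ((m : ℚ) - 1) * ((m : ℚ) - 2) / 48)) +
        (d ^ 2 / 6 + d / 2 * ((m : ℚ) / 2) + ((m : ℚ) / 12 + (m : ℚ) * ((m : ℚ) - 1) / 8)) * e +
        (d / 2 + (m : ℚ) / 2) * (e ^ 2 / 2) + e ^ 3 / 6 := by
  obtain ⟨i0, i1, i2, i3⟩ := coeffs_inv d
  obtain ⟨a0, a1, a2, a3⟩ := coeffs_pow m
  simp only [fixedPart, coeff_mul, Finset.Nat.sum_antidiagonal_eq_sum_range_succ_mk, Finset.sum_range_succ,
    Finset.range_zero, Finset.sum_empty, Nat.sub_self, Nat.sub_zero, zero_add, coeff_rescale, coeff_exp]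
  norm_num [i0, i1, i2, i3, a0, a1, a2, a3, Nat.factorial]
  exact ⟨by ring, by ring⟩

theorem leading_terms (n : ℕ) (d : ℕ) (s : ℤ) (hn : 2 ≤ n) :
    ∃ P : Polynomial ℚ, P.natDegree ≤ n - 2 ∧ ∀ p : ℕ,
      coeff n ((rescale (-(d : ℚ)) B)⁻¹ * rescale (-((d : ℚ) * p)) B * B ^ (n + 1) *
        rescale ((d : ℚ) * p - d - n - 1 + s) (exp ℚ)) =
      bernoulli' n * ((d : ℚ) * p) ^ n / (n.factorial : ℚ) +
        (2 * (s : ℚ) - d - n - 1) / 2 * bernoulli' (n - 1) * ((d : ℚ) * p) ^ (n - 1) / ((n - 1).factorial : ℚ) +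
        P.eval (p : ℚ) := by
  obtain ⟨k, rfl⟩ : ∃ k, n = k + 2 := ⟨n - 2, by omega⟩
  let F := fixedPart (k + 2 + 1) (d : ℚ) ((s : ℚ) - d - (k + 2 : ℕ) - 1)
  refine ⟨∑ j ∈ Finset.range (k + 1), Polynomial.C (coeff (k + 2 - j) F * (d : ℚ) ^ j * (bernoulli' j / (j.factorial : ℚ))) *
    Polynomial.X ^ j, ?_, fun p => ?_⟩
  · refine Polynomial.natDegree_sum_le_of_forall_le _ _ fun j hj => (Polynomial.natDegree_C_mul_X_pow_le _ _).trans ?_
    rw [Finset.mem_range] at hj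
    omega
  rw [show (d : ℚ) * p - d - (k + 2 : ℕ) - 1 + s = (d : ℚ) * p + ((s : ℚ) - d - (k + 2 : ℕ) - 1) by ring,
    coeff_product, Finset.sum_range_succ, Finset.sum_range_succ, Polynomial.eval_finsetSum]
  obtain ⟨f0, f1⟩ := fixedPart_coeffs (k + 2 + 1) (d : ℚ) ((s : ℚ) - d - (k + 2 : ℕ) - 1)
  rw [Nat.sub_self, f0, show k + 2 - (k + 1) = 1 by omega, f1, show k + 2 - 1 = k + 1 by omega]
  have : ∀ j ∈ Finset.range (k + 1), coeff (k + 2 - j) F * (((d : ℚ) * p) ^ j * (bernoulli' j / (j.factorial : ℚ))) =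
      (Polynomial.C (coeff (k + 2 - j) F * (d : ℚ) ^ j * (bernoulli' j / (j.factorial : ℚ))) * Polynomial.X ^ j).eval (p : ℚ) := by
    intro j _
    rw [Polynomial.eval_C_mul, Polynomial.eval_pow, Polynomial.eval_X, mul_pow]; ring
  rw [Finset.sum_congr rfl this]
  push_cast; ring

theorem sign_bernoulli (k : ℕ) (hk : k ≠ 0) : 0 < (-1 : ℚ) ^ (k + 1) * bernoulli' (2 * k) := by
  have h := hasSum_zeta_nat hk
  have hpos : 0 < (-1 : ℝ) ^ (k + 1) * 2 ^ (2 * k - 1) * Real.pi ^ (2 * k) * bernoulli (2 * k) / ((2 * k).factorial : ℝ) :=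
    lt_of_lt_of_le (by norm_num) (le_hasSum h 1 fun j _ => by positivity)
  rw [bernoulli_eq_bernoulli'_of_ne_one (by omega)] at hpos
  have hf : 0 < ((2 * k).factorial : ℝ) := by exact_mod_cast Nat.factorial_pos _
  have h2 : 0 < (2 : ℝ) ^ (2 * k - 1) * Real.pi ^ (2 * k) := by positivity
  have h3 : 0 < ((-1 : ℝ) ^ (k + 1) * ((bernoulli' (2 * k) : ℚ) : ℝ)) * ((2 : ℝ) ^ (2 * k - 1) * Real.pi ^ (2 * k)) := by
    have := (div_pos_iff_of_pos_right hf).mp hpos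
    linarith [this]
  have h4 : 0 < (-1 : ℝ) ^ (k + 1) * ((bernoulli' (2 * k) : ℚ) : ℝ) := by
    rcases le_or_gt ((-1 : ℝ) ^ (k + 1) * ((bernoulli' (2 * k) : ℚ) : ℝ)) 0 with hle | hlt
    · nlinarith
    · exact hlt
  exact_mod_cast h4

theorem eventually_neg {n : ℕ} {a b : ℚ} (P : Polynomial ℚ) (hP : P.natDegree ≤ n)
    (h : a < 0 ∨ (a = 0 ∧ b < 0)) :
    ∃ N : ℕ, ∀ p : ℕ, N ≤ p → a * (p : ℚ) ^ (n + 2) + b * (p : ℚ) ^ (n + 1) + P.eval (p : ℚ) < 0 := by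
  let S : ℚ := |b| + ∑ j ∈ Finset.range (n + 1), |P.coeff j|
  have hb : ∀ p : ℕ, 1 ≤ p → P.eval (p : ℚ) ≤ (∑ j ∈ Finset.range (n + 1), |P.coeff j|) * (p : ℚ) ^ n := by
    intro p hp
    rw [Polynomial.eval_eq_sum_range' (Nat.lt_succ_of_le hP), Finset.sum_mul]
    refine Finset.sum_le_sum fun j hj => ?_
    refine (mul_le_mul_of_nonneg_right (le_abs_self _) (by positivity)).trans ?_
    exact mul_le_mul_of_nonneg_left (pow_le_pow_right₀ (by exact_mod_cast hp) (Finset.mem_range_succ_iff.mp hj)) (abs_nonneg _)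
  have hS : 0 ≤ ∑ j ∈ Finset.range (n + 1), |P.coeff j| := Finset.sum_nonneg fun _ _ => abs_nonneg _
  rcases h with ha | ⟨ha, hb'⟩
  · obtain ⟨N, hN⟩ := exists_nat_gt (S / -a)
    refine ⟨N + 1, fun p hp => ?_⟩
    have hp1 : (1 : ℚ) ≤ p := by exact_mod_cast le_trans (Nat.le_add_left 1 N) hp
    have hpn : (0 : ℚ) < (p : ℚ) ^ (n + 1) := by positivity
    have h1 := hb p (by omega)
    have h2 : (p : ℚ) ^ n ≤ (p : ℚ) ^ (n + 1) := pow_le_pow_right₀ hp1 n.le_succ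
    have h3 : S < -a * (p : ℚ) := by
      have hN' : S / -a < (p : ℚ) := hN.trans_le (by exact_mod_cast le_trans (Nat.le_succ N) hp)
      rw [div_lt_iff₀ (by linarith)] at hN'
      linarith
    have h5 : b * (p : ℚ) ^ (n + 1) ≤ |b| * (p : ℚ) ^ (n + 1) := mul_le_mul_of_nonneg_right (le_abs_self b) hpn.le
    have h6 : (∑ j ∈ Finset.range (n + 1), |P.coeff j|) * (p : ℚ) ^ n ≤
        (∑ j ∈ Finset.range (n + 1), |P.coeff j|) * (p : ℚ) ^ (n + 1) := mul_le_mul_of_nonneg_left h2 hS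
    have h7 : (a * p + S) * (p : ℚ) ^ (n + 1) < 0 := mul_neg_of_neg_of_pos (by linarith) hpn
    calc a * (p : ℚ) ^ (n + 2) + b * (p : ℚ) ^ (n + 1) + P.eval (p : ℚ)
        ≤ a * (p : ℚ) ^ (n + 2) + |b| * (p : ℚ) ^ (n + 1) + (∑ j ∈ Finset.range (n + 1), |P.coeff j|) * (p : ℚ) ^ (n + 1) := by linarith
      _ = (a * p + S) * (p : ℚ) ^ (n + 1) := by simp only [S]; ring
      _ < 0 := h7
  · obtain ⟨N, hN⟩ := exists_nat_gt (S / -b)
    refine ⟨N + 1, fun p hp => ?_⟩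
    have hp1 : (1 : ℚ) ≤ p := by exact_mod_cast le_trans (Nat.le_add_left 1 N) hp
    have h1 := hb p (by omega)
    have h3 : S < -b * (p : ℚ) := by
      have hN' : S / -b < (p : ℚ) := hN.trans_le (by exact_mod_cast le_trans (Nat.le_succ N) hp)
      rw [div_lt_iff₀ (by linarith)] at hN'
      linarith
    have hpn : (0 : ℚ) < (p : ℚ) ^ n := by positivity
    have h4 : (∑ j ∈ Finset.range (n + 1), |P.coeff j|) ≤ S := le_add_of_nonneg_left (abs_nonneg b)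
    have h7 : (b * p + S) * (p : ℚ) ^ n < 0 := mul_neg_of_neg_of_pos (by linarith) hpn
    calc a * (p : ℚ) ^ (n + 2) + b * (p : ℚ) ^ (n + 1) + P.eval (p : ℚ)
        ≤ b * (p : ℚ) ^ (n + 1) + S * (p : ℚ) ^ n := by
          rw [ha]; nlinarith [mul_le_mul_of_nonneg_right h4 hpn.le]
      _ = (b * p + S) * (p : ℚ) ^ n := by ring
      _ < 0 := h7

theorem eventually_neg_product (n d : ℕ) (s : ℤ) (hn : 2 ≤ n) (hd : 1 ≤ d)
    (h : bernoulli' n < 0 ∨ (bernoulli' n = 0 ∧ (2 * (s : ℚ) - d - n - 1) * bernoulli' (n - 1) < 0)) :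
    ∃ P : ℕ, ∀ p : ℕ, P ≤ p →
      coeff n ((rescale (-(d : ℚ)) B)⁻¹ * rescale (-((d : ℚ) * p)) B * B ^ (n + 1) *
        rescale ((d : ℚ) * p - d - n - 1 + s) (exp ℚ)) < 0 := by
  obtain ⟨P, hP, he⟩ := leading_terms n d s hn
  obtain ⟨k, rfl⟩ : ∃ k, n = k + 2 := ⟨n - 2, by omega⟩
  have hd' : (0 : ℚ) < d := by exact_mod_cast hd
  have hf : ∀ i : ℕ, (0 : ℚ) < (i.factorial : ℚ) := fun i => by exact_mod_cast Nat.factorial_pos i
  obtain ⟨N, hN⟩ := eventually_neg (a := bernoulli' (k + 2) * (d : ℚ) ^ (k + 2) / ((k + 2).factorial : ℚ))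
    (b := (2 * (s : ℚ) - d - (k + 2 : ℕ) - 1) / 2 * bernoulli' (k + 1) * (d : ℚ) ^ (k + 1) / ((k + 1).factorial : ℚ))
    P (n := k) (by simpa using hP) (by
      rcases h with h | ⟨h0, h1⟩
      · exact Or.inl (div_neg_of_neg_of_pos (mul_neg_of_neg_of_pos h (by positivity)) (hf _))
      · refine Or.inr ⟨by rw [h0]; simp, ?_⟩
        rw [show k + 2 - 1 = k + 1 by omega] at h1
        refine div_neg_of_neg_of_pos (mul_neg_of_neg_of_pos ?_ (by positivity)) (hf _)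
        linarith [h1])
  refine ⟨N, fun p hp => ?_⟩
  rw [he p, show k + 2 - 1 = k + 1 by omega]
  refine lt_of_eq_of_lt ?_ (hN p hp)
  ring

theorem neg_cases {n : ℕ} (hn : 2 ≤ n) :
    (n % 4 = 0 → bernoulli' n < 0) ∧ (n % 4 = 1 → bernoulli' n = 0 ∧ bernoulli' (n - 1) < 0) ∧
      (n % 4 = 3 → bernoulli' n = 0 ∧ 0 < bernoulli' (n - 1)) := by
  refine ⟨fun h => ?_, fun h => ⟨bernoulli'_eq_zero_of_odd (Nat.odd_iff.mpr (by omega)) (by omega), ?_⟩,
    fun h => ⟨bernoulli'_eq_zero_of_odd (Nat.odd_iff.mpr (by omega)) (by omega), ?_⟩⟩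
  · have := sign_bernoulli (n / 2) (by omega)
    rw [show 2 * (n / 2) = n by omega, (Nat.odd_iff.mpr (by omega) : Odd (n / 2 + 1)).neg_one_pow] at this
    linarith
  · have := sign_bernoulli ((n - 1) / 2) (by omega)
    rw [show 2 * ((n - 1) / 2) = n - 1 by omega, (Nat.odd_iff.mpr (by omega) : Odd ((n - 1) / 2 + 1)).neg_one_pow] at this
    linarith
  · have := sign_bernoulli ((n - 1) / 2) (by omega)
    rw [show 2 * ((n - 1) / 2) = n - 1 by omega, (Nat.even_iff.mpr (by omega) : Even ((n - 1) / 2 + 1)).neg_one_pow] at this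
    linarith

theorem coeff_three (d p : ℕ) :
    coeff 3 ((rescale (-(d : ℚ)) B)⁻¹ * rescale (-((d : ℚ) * p)) B * B ^ 4 *
        rescale ((d : ℚ) * p - d - 3) (exp ℚ)) =
      -((d : ℚ) * (d + 2) * (p - 1) * (d * p - d - 2)) / 24 := by
  obtain ⟨f0, f1⟩ := fixedPart_coeffs 4 (d : ℚ) (-(d : ℚ) - 3)
  obtain ⟨f2, f3⟩ := fixedPart_coeffs_high 4 (d : ℚ) (-(d : ℚ) - 3)
  rw [show (d : ℚ) * p - d - 3 = (d : ℚ) * p + (-(d : ℚ) - 3) by ring, coeff_product]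
  simp only [Finset.sum_range_succ, Finset.range_zero, Finset.sum_empty, Nat.sub_self, Nat.sub_zero, zero_add]
  norm_num [f0, f1, f2, f3, bernoulli'_two, bernoulli'_three, Nat.factorial]
  ring

theorem coeff_one_product (d p : ℕ) (s : ℤ) :
    coeff 1 ((rescale (-(d : ℚ)) B)⁻¹ * rescale (-((d : ℚ) * p)) B * B ^ 2 *
        rescale ((d : ℚ) * p - d - 2 + s) (exp ℚ)) = (d : ℚ) * (p - 1) / 2 + s - 1 := by
  obtain ⟨f0, f1⟩ := fixedPart_coeffs 2 (d : ℚ) (-(d : ℚ) - 2 + s)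
  rw [show (d : ℚ) * p - d - 2 + s = (d : ℚ) * p + (-(d : ℚ) - 2 + s) by ring, coeff_product]
  simp only [Finset.sum_range_succ, Finset.range_zero, Finset.sum_empty, Nat.sub_self, Nat.sub_zero, zero_add]
  norm_num [f0, f1, Nat.factorial]
  ring

end Groth.Agent.ToddCoeff
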